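import Groth.Agent.Lib.AssPts.Alg
import Groth.Agent.Lib.WeakAss.Basic
import Groth.Agent.Lib.QCoh.Qcqs
import Mathlib.AlgebraicGeometry.Noetherian
import Mathlib.AlgebraicGeometry.Morphisms.Integral

/-!
Associated points of quasi-coherent modules on affine opens, and of direct images.
-/

set_option backward.isDefEq.respectTransparency false

universe u

open CategoryTheory AlgebraicGeometry Opposite

namespace GrothLib.AssPts

open GrothLib.WeakAss

variable {X : Scheme.{u}}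

theorem annSec_eq_colon {F : X.Modules} {V : X.Opens} (z : Γ(F, V)) :
    annSec z = (⊥ : Submodule Γ(X, V) Γ(F, V)).colon {z} := by
  ext a
  rw [mem_annSec, Submodule.mem_colon_singleton, Submodule.mem_bot]

theorem weak_iff (F : X.Modules) [F.IsQuasicoherent] {V : X.Opens} (hV : IsAffineOpen V) {x : X} (hx : x ∈ V) :
    Curv2.IsWeakAssPoint F x ↔ primeAt x hx ∈ FlatCA.weakAss Γ(X, V) Γ(F, V) := by
  rw [mem_weakAss_iff]
  constructor
  · intro h
    obtain ⟨z, hz⟩ := exists_minimal_of_isWeakAssPoint hV hx h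
    exact ⟨z, annSec_eq_colon z ▸ hz⟩
  · rintro ⟨z, hz⟩
    exact isWeakAssPoint_of_minimal hV z (hx := hx) (annSec_eq_colon z ▸ hz)

theorem ass_iff [IsLocallyNoetherian X] (F : X.Modules) [F.IsQuasicoherent] {V : X.Opens}
    (hV : IsAffineOpen V) {x : X} (hx : x ∈ V) :
    Curv2.IsAssPoint F x ↔ primeAt x hx ∈ associatedPrimes Γ(X, V) Γ(F, V) := by
  have := IsLocallyNoetherian.component_noetherian ⟨V, hV⟩
  rw [isAssPoint_iff_isWeakAssPoint, weak_iff F hV hx, weakAss_eq_associatedPrimes]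

theorem primeAt_injective {V : X.Opens} (hV : IsAffineOpen V) {x y : X} (hx : x ∈ V) (hy : y ∈ V)
    (h : primeAt x hx = primeAt y hy) : x = y := by
  obtain ⟨q, rfl⟩ : x ∈ Set.range hV.fromSpec := hV.range_fromSpec.symm ▸ hx
  obtain ⟨q', rfl⟩ : y ∈ Set.range hV.fromSpec := hV.range_fromSpec.symm ▸ hy
  rw [primeAt_fromSpec hV, primeAt_fromSpec hV] at h
  rw [PrimeSpectrum.ext h]

theorem specializes_iff {V : X.Opens} (hV : IsAffineOpen V) {x y : X} (hx : x ∈ V) (hy : y ∈ V) :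
    x ⤳ y ↔ primeAt x hx ≤ primeAt y hy := by
  obtain ⟨q, rfl⟩ : x ∈ Set.range hV.fromSpec := hV.range_fromSpec.symm ▸ hx
  obtain ⟨q', rfl⟩ : y ∈ Set.range hV.fromSpec := hV.range_fromSpec.symm ▸ hy
  rw [primeAt_fromSpec hV, primeAt_fromSpec hV, hV.fromSpec.isOpenEmbedding.isInducing.specializes_iff,
    ← PrimeSpectrum.le_iff_specializes]
  rfl

theorem exists_point {V : X.Opens} (hV : IsAffineOpen V) (P : Ideal Γ(X, V)) (hP : P.IsPrime) :
    ∃ (x : X) (hx : x ∈ V), primeAt x hx = P :=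
  ⟨_, fromSpec_mem hV ⟨P, hP⟩, primeAt_fromSpec hV ⟨P, hP⟩ _⟩

variable {Y : Scheme.{u}}

theorem comap_primeAt (f : X ⟶ Y) {V : Y.Opens} {W : X.Opens} (hW : W ≤ f ⁻¹ᵁ V) {x : X} (hx : x ∈ W) :
    (primeAt x hx).comap (f.appLE V W hW).hom = primeAt (f x) (hW hx) := by
  ext a
  rw [← not_iff_not, Ideal.mem_comap, notMem_primeAt_iff, notMem_primeAt_iff]
  show x ∈ X.basicOpen (f.appLE V W hW a) ↔ _
  rw [Scheme.Hom.appLE, CommRingCat.comp_apply, Scheme.basicOpen_res, ← Scheme.preimage_basicOpen]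
  exact ⟨fun h => h.2, fun h => ⟨hx, h⟩⟩

/-- Sections of a direct image as a module over the sections upstairs. -/
theorem weakAss_push_subset (f : X ⟶ Y) [QuasiCompact f] [QuasiSeparated f] (M : X.Modules)
    [M.IsQuasicoherent] {y : Y} (hy : Curv2.IsWeakAssPoint ((Scheme.Modules.pushforward f).obj M) y) :
    ∃ x, f x = y ∧ Curv2.IsWeakAssPoint M x := by
  classical
  have := QCoh.isQuasicoherent_pushforward f M
  obtain ⟨_, ⟨V, hV, rfl⟩, hyV, -⟩ :=
    Y.isBasis_affineOpens.exists_subset_of_mem_open (Set.mem_univ y) isOpen_univ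
  have hV : IsAffineOpen V := hV
  obtain ⟨z, hz⟩ := exists_minimal_of_isWeakAssPoint hV hyV hy
  let z' : Γ(M, f ⁻¹ᵁ V) := z
  obtain ⟨ι, _, W, hW, hWle, hcov⟩ := QCoh.exists_finite_affine_cover (f.isCompact_preimage hV.isCompact)
  let J : ι → Ideal Γ(Y, V) := fun i =>
    (annSec (M.presheaf.map (homOfLE (hWle i)).op z')).comap (f.appLE V (W i) (hWle i)).hom
  have hJ : annSec z = Finset.univ.inf J := by
    ext a
    rw [mem_annSec, Submodule.mem_finsetInf]
    have key : ∀ i, a ∈ J i ↔ M.presheaf.map (homOfLE (hWle i)).op (f.app V a • z') = 0 := fun i => by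
      rw [Ideal.mem_comap, mem_annSec, Scheme.Modules.map_smul]
      rfl
    constructor
    · intro h i _
      rw [key, show f.app V a • z' = 0 from h, map_zero]
    · intro h
      exact QCoh.eq_zero_of_finite_cover M W hWle hcov (f.app V a • z') fun i => (key i).mp (h i (Finset.mem_univ i))
  obtain ⟨i, -, hi⟩ := (Ideal.IsPrime.inf_le' (inferInstance : (primeAt y hyV).IsPrime)).mp (hJ ▸ hz.1.2)
  have hmin : primeAt y hyV ∈ (J i).minimalPrimes :=
    ⟨⟨inferInstance, hi⟩, fun q hq hqp => hz.2 ⟨hq.1,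
      hJ ▸ (Finset.inf_le (Finset.mem_univ i)).trans hq.2⟩ hqp⟩
  obtain ⟨P, hP, hPy⟩ := Ideal.exists_minimalPrimes_comap_eq _ _ hmin
  obtain ⟨x, hx, rfl⟩ := exists_point (hW i) P hP.1.1
  refine ⟨x, primeAt_injective hV (hWle i hx) hyV ?_, isWeakAssPoint_of_minimal (hW i) _ hP⟩
  rw [← comap_primeAt f (hWle i) hx, hPy]

theorem isWeakAssPoint_push (f : X ⟶ Y) [QuasiCompact f] [QuasiSeparated f] (M : X.Modules)
    [M.IsQuasicoherent] {x : X} {V : Y.Opens} (hV : IsAffineOpen V) (hpre : IsAffineOpen (f ⁻¹ᵁ V))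
    (hxV : f x ∈ V)
    (halg : letI := (f.app V).hom.toAlgebra
      ∀ (N : Type u) [AddCommGroup N] [Module Γ(X, f ⁻¹ᵁ V) N] [Module Γ(Y, V) N]
        [IsScalarTower Γ(Y, V) Γ(X, f ⁻¹ᵁ V) N],
        Ideal.comap (algebraMap Γ(Y, V) Γ(X, f ⁻¹ᵁ V)) '' FlatCA.weakAss Γ(X, f ⁻¹ᵁ V) N ⊆
          FlatCA.weakAss Γ(Y, V) N)
    (hx : Curv2.IsWeakAssPoint M x) :
    Curv2.IsWeakAssPoint ((Scheme.Modules.pushforward f).obj M) (f x) := by
  have := QCoh.isQuasicoherent_pushforward f M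
  rw [weak_iff _ hV hxV]
  have hx' := (weak_iff M hpre (x := x) hxV).mp hx
  rw [← comap_primeAt f le_rfl (x := x) hxV, Scheme.Hom.appLE]
  simp only [homOfLE_refl, op_id, CategoryTheory.Functor.map_id, Category.comp_id]
  let _ := (f.app V).hom.toAlgebra
  let _ : Module Γ(Y, V) Γ(M, f ⁻¹ᵁ V) := Module.compHom Γ(M, f ⁻¹ᵁ V) (f.app V).hom
  have : IsScalarTower Γ(Y, V) Γ(X, f ⁻¹ᵁ V) Γ(M, f ⁻¹ᵁ V) :=
    ⟨fun a b m => (congrArg (· • m) (Algebra.smul_def a b)).trans (mul_smul _ _ _)⟩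
  exact halg Γ(M, f ⁻¹ᵁ V) ⟨_, hx', rfl⟩

theorem isWeakAssPoint_push_of_noetherian [IsLocallyNoetherian X] [IsLocallyNoetherian Y] (f : X ⟶ Y)
    [QuasiCompact f] [QuasiSeparated f] (M : X.Modules) [M.IsQuasicoherent] {x : X} {V : Y.Opens}
    (hV : IsAffineOpen V) (hpre : IsAffineOpen (f ⁻¹ᵁ V)) (hxV : f x ∈ V)
    (hx : Curv2.IsWeakAssPoint M x) :
    Curv2.IsWeakAssPoint ((Scheme.Modules.pushforward f).obj M) (f x) := by
  have := IsLocallyNoetherian.component_noetherian ⟨V, hV⟩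
  have := IsLocallyNoetherian.component_noetherian ⟨f ⁻¹ᵁ V, hpre⟩
  let _ := (f.app V).hom.toAlgebra
  refine isWeakAssPoint_push f M hV hpre hxV (fun N _ _ _ _ => ?_) hx
  rw [weakAss_eq_associatedPrimes, weakAss_eq_associatedPrimes,
    associatedPrimes_eq_image (A := Γ(Y, V)) (B := Γ(X, f ⁻¹ᵁ V))]

theorem isWeakAssPoint_push_of_isFinite (f : X ⟶ Y) [IsFinite f] (M : X.Modules) [M.IsQuasicoherent]
    {x : X} (hx : Curv2.IsWeakAssPoint M x) :
    Curv2.IsWeakAssPoint ((Scheme.Modules.pushforward f).obj M) (f x) := by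
  obtain ⟨_, ⟨V, hV, rfl⟩, hxV, -⟩ :=
    Y.isBasis_affineOpens.exists_subset_of_mem_open (Set.mem_univ (f x)) isOpen_univ
  have hV : IsAffineOpen V := hV
  let _ := (f.app V).hom.toAlgebra
  have : Module.Finite Γ(Y, V) Γ(X, f ⁻¹ᵁ V) := RingHom.finite_algebraMap.mp (f.finite_app V hV)
  refine isWeakAssPoint_push f M hV (hV.preimage f) hxV (fun N _ _ _ _ => ?_) hx
  exact image_subset_weakAss fun p _ => Algebra.QuasiFinite.finite_primesOver p

end GrothLib.AssPts
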