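import Groth.Agent.Lib.AssPts.Points
import Groth.Agent.Lib.WeakAss.Structure
import Groth.Agent.Lib.BlowUp.WeakAss
import Groth.Prelude.Def_FlatMod2
import Mathlib.RingTheory.Ideal.AssociatedPrime.Finiteness
import Mathlib.RingTheory.Flat.Basic
import Mathlib.RingTheory.Flat.TorsionFree

/-!
Associated points and flatness over the base.
-/

universe u

open CategoryTheory AlgebraicGeometry Opposite

namespace GrothLib.AssPts

theorem mem_associatedPrimes_of_flat {A B M : Type u} [CommRing A] [CommRing B] [IsLocalRing A]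
    [IsLocalRing B] [IsNoetherianRing A] [Algebra A B] [IsLocalHom (algebraMap A B)] [AddCommGroup M]
    [Module A M] [Module B M] [IsScalarTower A B M] [Module.Flat A M]
    (h : IsAssociatedPrime (IsLocalRing.maximalIdeal B) M) :
    IsLocalRing.maximalIdeal A ∈ associatedPrimes A A := by
  classical
  obtain ⟨hp, m, hm⟩ := h
  have hzd : ∀ a ∈ IsLocalRing.maximalIdeal A, a ∈ ⋃ p ∈ associatedPrimes A A, (p : Set A) := by
    intro a ha
    rw [biUnion_associatedPrimes_eq_compl_nonZeroDivisors, Set.mem_compl_iff, SetLike.mem_coe]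
    intro hnzd
    have hreg : IsSMulRegular M a :=
      Module.IsTorsionFree.isSMulRegular (isRegular_iff_mem_nonZeroDivisors.mpr hnzd)
    have hb : algebraMap A B a ∈ IsLocalRing.maximalIdeal B := by
      rw [IsLocalRing.mem_maximalIdeal] at ha ⊢
      exact fun hu => ha (isUnit_of_map_unit (algebraMap A B) a hu)
    rw [hm] at hb
    obtain ⟨n, hn⟩ := hb
    rw [Submodule.mem_colon_singleton, Submodule.mem_bot, ← map_pow, algebraMap_smul] at hn
    have hm0 : m = 0 := (hreg.pow n) (hn.trans (smul_zero _).symm)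
    exact hp.ne_top (by rw [hm, hm0]; simp)
  have hsub : (IsLocalRing.maximalIdeal A : Set A) ⊆
      ⋃ p ∈ ((associatedPrimes.finite A A).toFinset : Set (Ideal A)), (p : Set A) := by
    intro a ha
    obtain ⟨p, hp', hap⟩ := Set.mem_iUnion₂.mp (hzd a ha)
    exact Set.mem_biUnion (by simpa using hp') hap
  obtain ⟨p, hp', hle⟩ := (Ideal.subset_union_prime ⊥ ⊥
    (fun q hq _ _ => ((associatedPrimes.finite A A).mem_toFinset.mp hq).1)).mp hsub
  have hp'' := (associatedPrimes.finite A A).mem_toFinset.mp hp'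
  rw [(IsLocalRing.maximalIdeal.isMaximal A).eq_of_le hp''.1.ne_top hle]
  exact hp''

variable {X : Scheme.{u}}

theorem exists_stalk_unit_equiv (x : X) :
    Nonempty (X.presheaf.stalk x ≃ₗ[X.presheaf.stalk x] (Coh.structureModule X).presheaf.stalk x) := by
  let g := TopCat.Presheaf.germ (Coh.structureModule X).presheaf ⊤ x trivial (BlowUp.toUnit (1 : Γ(X, ⊤)))
  let φ : X.presheaf.stalk x →ₗ[X.presheaf.stalk x] (Coh.structureModule X).presheaf.stalk x :=
    LinearMap.toSpanSingleton _ _ g
  have hφ : ∀ (W : X.Opens) (hx : x ∈ W) (s : Γ(X, W)), φ (X.presheaf.germ W x hx s) =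
      TopCat.Presheaf.germ (Coh.structureModule X).presheaf W x hx (BlowUp.toUnit s) := by
    intro W hx s
    have h1 : g = TopCat.Presheaf.germ (Coh.structureModule X).presheaf W x hx (BlowUp.toUnit (1 : Γ(X, W))) := by
      refine (TopCat.Presheaf.germ_res_apply (Coh.structureModule X).presheaf (homOfLE (le_top (a := W))) x hx _).symm.trans ?_
      exact congrArg _ (map_one (X.presheaf.map (homOfLE (le_top (a := W))).op).hom)
    show X.presheaf.germ W x hx s • g = _
    rw [h1]
    erw [← WeakAss.germ_smul]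
    exact congrArg _ (mul_one s)
  refine ⟨LinearEquiv.ofBijective φ ⟨?_, ?_⟩⟩
  · rw [injective_iff_map_eq_zero]
    intro r hr
    obtain ⟨W, hx, s, rfl⟩ := X.presheaf.exists_germ_eq r
    rw [hφ] at hr
    exact (BlowUp.germ_toUnit_eq_zero_iff hx s).mp hr
  · intro e
    obtain ⟨W, hx, s, rfl⟩ := TopCat.Presheaf.exists_germ_eq (Coh.structureModule X).presheaf e
    exact ⟨_, hφ W hx s⟩

theorem isAssPoint_structure_iff (x : X) :
    Curv2.IsAssPoint (Coh.structureModule X) x ↔
      IsAssociatedPrime (IsLocalRing.maximalIdeal (X.presheaf.stalk x)) (X.presheaf.stalk x) := by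
  obtain ⟨e⟩ := exists_stalk_unit_equiv x
  exact (e.isAssociatedPrime_iff).symm

theorem map_mem_ass {Y : Scheme.{u}} [IsLocallyNoetherian Y] (f : X ⟶ Y) (F : X.Modules) {x : X}
    (hflat : FlatMod.IsFlatOverAt f F x) (hx : Curv2.IsAssPoint F x) :
    Curv2.IsAssPoint (Coh.structureModule Y) (f x) := by
  rw [isAssPoint_structure_iff]
  let _ := (f.stalkMap x).hom.toAlgebra
  let _ := FlatMod.moduleStalkOver f F x
  have : IsScalarTower (Y.presheaf.stalk (f x)) (X.presheaf.stalk x) (F.presheaf.stalk x) :=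
    IsScalarTower.of_algebraMap_smul fun _ _ => rfl
  have : IsLocalHom (algebraMap (Y.presheaf.stalk (f x)) (X.presheaf.stalk x)) :=
    inferInstanceAs (IsLocalHom (f.stalkMap x).hom)
  have : Module.Flat (Y.presheaf.stalk (f x)) (F.presheaf.stalk x) := hflat
  exact mem_associatedPrimes_of_flat hx

theorem isFlatOverAt_structure {Y : Scheme.{u}} (f : X ⟶ Y) [Flat f] (x : X) :
    FlatMod.IsFlatOverAt f (Coh.structureModule X) x := by
  obtain ⟨e⟩ := exists_stalk_unit_equiv x
  let _ := FlatMod.moduleStalkOver f (Coh.structureModule X) x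
  let _ := (f.stalkMap x).hom.toAlgebra
  have : IsScalarTower (Y.presheaf.stalk (f x)) (X.presheaf.stalk x) ((Coh.structureModule X).presheaf.stalk x) :=
    IsScalarTower.of_algebraMap_smul fun _ _ => rfl
  have : Module.Flat (Y.presheaf.stalk (f x)) (X.presheaf.stalk x) := Flat.stalkMap f x
  show Module.Flat (Y.presheaf.stalk (f x)) ((Coh.structureModule X).presheaf.stalk x)
  exact Module.Flat.of_linearEquiv (e.restrictScalars (Y.presheaf.stalk (f x))).symm

end GrothLib.AssPts
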