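import Groth.Prelude.Def_FDesc
import Groth.Agent.Lib.AssPts.Points
import Groth.Agent.Lib.WeakAss.Functorial
import Groth.Agent.Lib.QCoh.FT
import Groth.Agent.Lib.QCoh.Support
import Mathlib.RingTheory.Length
import Mathlib.RingTheory.Ideal.AssociatedPrime.Finiteness
import Mathlib.RingTheory.Ideal.AssociatedPrime.Localization

/-!
# Associated points: invariance under isomorphism, restriction to opens, finiteness on affines
-/

universe u

open CategoryTheory AlgebraicGeometry Opposite

namespace GrothLib.AssPts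

open GrothLib.WeakAss

variable {X : Scheme.{u}}

/-- The linear equivalence on stalks of an isomorphism. -/
noncomputable def stalkEquiv {F G : X.Modules} (e : F ≅ G) (x : X) :
    F.presheaf.stalk x ≃ₗ[X.presheaf.stalk x] G.presheaf.stalk x :=
  LinearEquiv.ofBijective (stalkLinear e.hom x) (by
    change Function.Bijective (((Scheme.Modules.toPresheaf _) ⋙
      TopCat.Presheaf.stalkFunctor AddCommGrpCat.{u} x).map e.hom)
    exact ConcreteCategory.bijective_of_isIso _)

theorem isAssPoint_congr {F G : X.Modules} (e : F ≅ G) (x : X) :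
    Curv2.IsAssPoint F x ↔ Curv2.IsAssPoint G x :=
  (stalkEquiv e x).isAssociatedPrime_iff

theorem ass_congr {F G : X.Modules} (e : F ≅ G) : AssSch.Ass F = AssSch.Ass G :=
  Set.ext (isAssPoint_congr e)

theorem length_stalk_congr {F G : X.Modules} (e : F ≅ G) (x : X) :
    Module.length (X.presheaf.stalk x) (F.presheaf.stalk x) =
      Module.length (X.presheaf.stalk x) (G.presheaf.stalk x) :=
  (stalkEquiv e x).length_eq

/-- The stalk of the restriction to an open, semilinearly. -/
theorem exists_restrict_stalk (F : X.Modules) (U : X.Opens) (y : (U : Scheme.{u})) :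
    ∃ (ψ : (U : Scheme.{u}).presheaf.stalk y →+* X.presheaf.stalk (U.ι y))
      (φ : (F.restrict U.ι).presheaf.stalk y →+ F.presheaf.stalk (U.ι y)),
      Function.Bijective ψ ∧ Function.Bijective φ ∧ ∀ c z, φ (c • z) = ψ c • φ z := by
  let φ : (F.restrict U.ι).presheaf.stalk y →+ F.presheaf.stalk (U.ι y) :=
    ((Scheme.Modules.restrictStalkNatIso U.ι y).app F).hom.hom
  let ψ : (U : Scheme.{u}).presheaf.stalk y →+* X.presheaf.stalk (U.ι y) := (U.stalkIso y).hom.hom
  have hφ : ∀ (V : (U : Scheme.{u}).Opens) (hV : y ∈ V) (t : Γ(F.restrict U.ι, V)),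
      φ ((F.restrict U.ι).presheaf.germ V y hV t) =
        F.presheaf.germ (U.ι ''ᵁ V) (U.ι y) ⟨y, hV, rfl⟩ t := fun V hV t =>
    ConcreteCategory.congr_hom
      (Scheme.Modules.germ_restrictStalkNatIso_hom_app U.ι y F (U := V) hV) t
  have hψ : ∀ (V : (U : Scheme.{u}).Opens) (hV : y ∈ V) (t : Γ(U, V)),
      ψ ((U : Scheme.{u}).presheaf.germ V y hV t) =
        X.presheaf.germ (U.ι ''ᵁ V) (U.ι y) ⟨y, hV, rfl⟩ t := fun V hV t =>
    ConcreteCategory.congr_hom (Scheme.Opens.germ_stalkIso_hom U y hV) t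
  refine ⟨ψ, φ, ConcreteCategory.bijective_of_isIso (U.stalkIso y).hom,
    ConcreteCategory.bijective_of_isIso ((Scheme.Modules.restrictStalkNatIso U.ι y).app F).hom, fun c z => ?_⟩
  obtain ⟨V, hV, r, rfl⟩ := TopCat.Presheaf.exists_germ_eq (U : Scheme.{u}).presheaf c
  obtain ⟨V', hV', s, rfl⟩ := TopCat.Presheaf.exists_germ_eq (F.restrict U.ι).presheaf z
  have hW : y ∈ V ⊓ V' := ⟨hV, hV'⟩
  rw [← TopCat.Presheaf.germ_res_apply (U : Scheme.{u}).presheaf (homOfLE (inf_le_left : V ⊓ V' ≤ V)) y hW r,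
    ← TopCat.Presheaf.germ_res_apply (F.restrict U.ι).presheaf (homOfLE (inf_le_right : V ⊓ V' ≤ V')) y hW s,
    ← WeakAss.germ_smul (F := F.restrict U.ι) hW, hφ, hφ, hψ]
  erw [WeakAss.germ_smul (F := F) (V := U.ι ''ᵁ (V ⊓ V')) (x := U.ι y) ⟨y, hW, rfl⟩]
  refine congrArg₂ (· • ·) (congrArg (X.presheaf.germ (U.ι ''ᵁ (V ⊓ V')) (U.ι y) ⟨y, hW, rfl⟩) ?_) rfl
  change ((U.ι.appIso (V ⊓ V')).inv).hom _ = _
  rw [Scheme.Opens.ι_appIso]
  rfl

section semilinear

variable {A B : Type u} [CommRing A] [CommRing B] [IsLocalRing A] [IsLocalRing B] {M N : Type u}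
  [AddCommGroup M] [Module A M] [AddCommGroup N] [Module B N]

theorem semilinear_transport (ψ : A →+* B) (φ : M →+ N) (hψ : Function.Bijective ψ)
    (hφ : Function.Bijective φ) (h : ∀ c z, φ (c • z) = ψ c • φ z) :
    (IsAssociatedPrime (IsLocalRing.maximalIdeal A) M ↔ IsAssociatedPrime (IsLocalRing.maximalIdeal B) N) ∧
      Module.length A M = Module.length B N := by
  letI := ψ.toAlgebra
  letI : Module A N := Module.compHom N ψ
  haveI : IsScalarTower A B N := ⟨fun a b n => mul_smul (ψ a) b n⟩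
  let e : M ≃ₗ[A] N :=
    LinearEquiv.ofBijective ({ toFun := φ, map_add' := map_add φ, map_smul' := h } : M →ₗ[A] N) hφ
  refine ⟨e.isAssociatedPrime_iff.trans ?_, e.length_eq.trans (Module.length_eq_of_surjective hψ.2)⟩
  have hmax : (IsLocalRing.maximalIdeal B).comap ψ = IsLocalRing.maximalIdeal A := by
    haveI := Ideal.comap_isMaximal_of_surjective ψ hψ.2 (K := IsLocalRing.maximalIdeal B)
    exact IsLocalRing.eq_maximalIdeal this
  have hcol : ∀ n : N, ((⊥ : Submodule B N).colon {n}).comap ψ = (⊥ : Submodule A N).colon {n} := fun n => by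
    ext a
    rw [Ideal.mem_comap, Submodule.mem_colon_singleton, Submodule.mem_colon_singleton, Submodule.mem_bot,
      Submodule.mem_bot]
    rfl
  unfold IsAssociatedPrime
  rw [Submodule.isAssociatedPrime_def, Submodule.isAssociatedPrime_def]
  refine and_congr (iff_of_true (IsLocalRing.maximalIdeal.isMaximal A).isPrime
    (IsLocalRing.maximalIdeal.isMaximal B).isPrime) (exists_congr fun n => ?_)
  rw [← hcol, ← Ideal.comap_radical, ← hmax]
  exact ⟨fun h => Ideal.comap_injective_of_surjective ψ hψ.2 h, fun h => congrArg _ h⟩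

end semilinear

theorem restrict_transport (F : X.Modules) (U : X.Opens) (y : (U : Scheme.{u})) :
    (Curv2.IsAssPoint ((Scheme.Modules.pullback U.ι).obj F) y ↔ Curv2.IsAssPoint F (U.ι y)) ∧
      Module.length ((U : Scheme.{u}).presheaf.stalk y) (((Scheme.Modules.pullback U.ι).obj F).presheaf.stalk y) =
        Module.length (X.presheaf.stalk (U.ι y)) (F.presheaf.stalk (U.ι y)) := by
  obtain ⟨ψ, φ, hψ, hφ, h⟩ := exists_restrict_stalk F U y
  have e : (Scheme.Modules.pullback U.ι).obj F ≅ F.restrict U.ι :=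
    ((Scheme.Modules.restrictFunctorIsoPullback U.ι).app F).symm
  obtain ⟨h1, h2⟩ := semilinear_transport ψ φ hψ hφ h
  exact ⟨(isAssPoint_congr e y).trans h1, (length_stalk_congr e y).trans h2⟩

variable [IsLocallyNoetherian X]

theorem finite_ass_inter_affine (F : X.Modules) (hF : Coh.IsCoh F) {V : X.Opens} (hV : IsAffineOpen V) :
    (AssSch.Ass F ∩ (V : Set X)).Finite := by
  have : F.IsQuasicoherent := hF.1
  have := IsLocallyNoetherian.component_noetherian ⟨V, hV⟩
  have := QCoh.moduleFinite_of_isFiniteType F hF.2 hV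
  refine Set.Finite.of_finite_image (f := fun x => by classical exact if h : x ∈ V then primeAt x h else ⊤)
    ((associatedPrimes.finite Γ(X, V) Γ(F, V)).subset ?_) ?_
  · rintro _ ⟨x, ⟨hx, hxV⟩, rfl⟩
    simp only [dif_pos (SetLike.mem_coe.mp hxV)]
    exact (ass_iff F hV hxV).mp hx
  · rintro a ⟨-, ha⟩ b ⟨-, hb⟩ h
    simp only [dif_pos (SetLike.mem_coe.mp ha), dif_pos (SetLike.mem_coe.mp hb)] at h
    exact primeAt_injective hV ha hb h

omit [IsLocallyNoetherian X] in
theorem mem_support_of_isAssPoint (F : X.Modules) {x : X} (hx : Curv2.IsAssPoint F x) :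
    x ∈ CohB1.support F := by
  intro hs
  exact not_isWeakAssPoint_of_subsingleton ((isAssPoint_iff_isWeakAssPoint x).mp hx)

/-- Every point of the support is a specialisation of an associated point. -/
theorem exists_ass_specializes (F : X.Modules) (hF : Coh.IsCoh F) {x : X} (hx : x ∈ CohB1.support F) :
    ∃ y ∈ AssSch.Ass F, y ⤳ x := by
  have : F.IsQuasicoherent := hF.1
  obtain ⟨_, ⟨V, hV, rfl⟩, hxV, -⟩ :=
    X.isBasis_affineOpens.exists_subset_of_mem_open (Set.mem_univ x) isOpen_univ
  have hV : IsAffineOpen V := hV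
  have hxV : x ∈ V := hxV
  have := IsLocallyNoetherian.component_noetherian ⟨V, hV⟩
  have := QCoh.moduleFinite_of_isFiniteType F hF.2 hV
  obtain ⟨P, hP, hPx⟩ := Ideal.exists_minimalPrimes_le
    (Module.mem_support_iff_of_finite.mp ((QCoh.mem_support_iff_primeAt F hV hxV).mp hx))
  have hass := Module.associatedPrimes.minimalPrimes_annihilator_subset_associatedPrimes _ _ hP
  obtain ⟨y, hy, rfl⟩ := exists_point hV P hP.1.1
  exact ⟨y, (ass_iff F hV hy).mpr hass, (specializes_iff hV hy hxV).mpr hPx⟩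

end GrothLib.AssPts
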