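import Groth.Agent.Lib.AssPts.Restrict
import Groth.Agent.Lib.QCoh.Killed
import Groth.Agent.Lib.QCoh.SupportExact
import Mathlib.RingTheory.Filtration
import Mathlib.RingTheory.Noetherian.Basic

/-!
# Primary decomposition of coherent modules on locally Noetherian schemes
-/

universe u

open CategoryTheory CategoryTheory.Limits AlgebraicGeometry Opposite

namespace GrothLib.Primary

open GrothLib.WeakAss GrothLib.AssPts GrothLib.QCoh

variable {X : Scheme.{u}} (M : X.Modules) (x : X) (n : ℕ)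

/-- Sections whose germ at `x` lies in `m ^ n M_x`. -/
noncomputable def germPow : SubData M where
  sec V :=
    { carrier := {s | ∀ hx : x ∈ V, M.presheaf.germ V x hx s ∈
        IsLocalRing.maximalIdeal (X.presheaf.stalk x) ^ n •
          (⊤ : Submodule (X.presheaf.stalk x) (M.presheaf.stalk x))}
      add_mem' := fun hs ht hx => by rw [map_add]; exact Submodule.add_mem _ (hs hx) (ht hx)
      zero_mem' := fun hx => by rw [map_zero]; exact Submodule.zero_mem _
      smul_mem' := fun r s hs hx => by rw [WeakAss.germ_smul]; exact Submodule.smul_mem _ _ (hs hx) }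
  map_mem i s hs hx := by rw [germ_map]; exact hs (i.le hx)
  locality {U} s h hx := by
    obtain ⟨V, i, hxV, hV⟩ := h x hx
    exact (germ_map M i hxV s) ▸ hV hxV

theorem germPow_isQuasicoherent [M.IsQuasicoherent] : (germPow M x n).obj.IsQuasicoherent := by
  refine (germPow M x n).isQuasicoherent fun U hU g t ht => ?_
  by_cases hg : x ∈ X.basicOpen g
  · refine ⟨0, fun hx => ?_⟩
    rw [pow_zero, one_smul, ← germ_map M (homOfLE (X.basicOpen_le g)) hg]
    exact ht hg
  · refine ⟨n, fun hx => ?_⟩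
    rw [WeakAss.germ_smul, map_pow]
    refine Submodule.smul_mem_smul (Ideal.pow_mem_pow ?_ n) trivial
    by_contra h
    exact hg ((Scheme.mem_basicOpen _ g x hx).mpr (IsLocalRing.notMem_maximalIdeal.mp h))

instance mono_ι {M : X.Modules} (P : SubData M) : Mono P.ι :=
  mono_of_app_injective _ P.ι_app_injective

theorem π_app_eq_zero_iff {M : X.Modules} (P : SubData M) (V : X.Opens) (s : Γ(M, V)) :
    (cokernel.π P.ι).app V s = 0 ↔ s ∈ P.sec V := by
  constructor
  · intro h
    obtain ⟨a, ha⟩ := app_exact (S := ShortComplex.mk P.ι (cokernel.π P.ι) (cokernel.condition _))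
      { exact := ShortComplex.exact_cokernel _ } V s h
    exact ha ▸ P.ι_app_mem a
  · intro h
    rw [← P.ι_app_lift s h, ← ConcreteCategory.comp_apply, ← Scheme.Modules.Hom.comp_app, cokernel.condition]
    rfl

variable [IsLocallyNoetherian X]

/-- The quotient of `M` by `germPow`. -/
noncomputable abbrev quot : X.Modules := cokernel (germPow M x n).ι

theorem quot_isCoh (hM : Coh.IsCoh M) : Coh.IsCoh (quot M x n) := by
  have := hM.1
  have := germPow_isQuasicoherent M x n
  exact isCoh_cokernel _ ⟨this, (germPow M x n).isFiniteType hM⟩ hM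

theorem ass_quot_subset (hM : Coh.IsCoh M) : AssSch.Ass (quot M x n) ⊆ {x} := by
  intro y hy
  have := hM.1
  have hN := germPow_isQuasicoherent M x n
  have hQ := (quot_isCoh M x n hM).1
  obtain ⟨V, hV, hyV⟩ : ∃ V : X.Opens, IsAffineOpen V ∧ y ∈ V := by
    obtain ⟨_, ⟨V, hV, rfl⟩, hyV, -⟩ :=
      X.isBasis_affineOpens.exists_subset_of_mem_open (Set.mem_univ y) isOpen_univ
    exact ⟨V, hV, hyV⟩
  have := IsLocallyNoetherian.component_noetherian ⟨V, hV⟩
  have h := (ass_iff (quot M x n) hV hyV).mp hy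
  rw [AssociatedPrimes.mem_iff, isAssociatedPrime_iff] at h
  obtain ⟨-, z, hz⟩ := h
  obtain ⟨z, rfl⟩ := @app_surjective_of_isAffineOpen _
    (ShortComplex.mk (germPow M x n).ι (cokernel.π _) (cokernel.condition _))
    { exact := ShortComplex.exact_cokernel _ } hN V hV z
  have hmem : ∀ a : Γ(X, V), a ∈ primeAt y hyV ↔ a • z ∈ (germPow M x n).sec V := fun a => by
    rw [hz, Submodule.mem_colon_singleton, Submodule.mem_bot, ← π_app_eq_zero_iff]
    exact (Eq.congr_left ((appLinear (cokernel.π (germPow M x n).ι) V).map_smul a z).symm)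
  have h1 : (1 : Γ(X, V)) ∉ primeAt y hyV := (Ideal.ne_top_iff_one _).mp Ideal.IsPrime.ne_top'
  have hxV : x ∈ V := by
    by_contra hxV
    exact h1 ((hmem 1).mpr fun hx => absurd hx hxV)
  refine primeAt_injective hV hyV hxV (le_antisymm (fun a ha => ?_) ?_)
  · by_contra hax
    refine h1 ((hmem 1).mpr fun hx => ?_)
    have hu : IsUnit (X.presheaf.germ V x hx a) :=
      (Scheme.mem_basicOpen _ a x hx).mp (notMem_primeAt_iff.mp hax)
    have := (hmem a).mp ha hx
    rw [WeakAss.germ_smul] at this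
    rw [one_smul]
    exact (Submodule.smul_mem_iff_of_isUnit _ hu).mp this
  · intro a ha
    refine (inferInstance : (primeAt y hyV).IsPrime).mem_of_pow_mem n ((hmem _).mpr fun hx => ?_)
    rw [WeakAss.germ_smul, map_pow]
    exact Submodule.smul_mem_smul (Ideal.pow_mem_pow (Ideal.mem_comap.mp ha) n) trivial

theorem moduleFinite_stalk (hM : Coh.IsCoh M) :
    Module.Finite (X.presheaf.stalk x) (M.presheaf.stalk x) := by
  classical
  have := hM.1
  obtain ⟨V, hV, hxV⟩ : ∃ V : X.Opens, IsAffineOpen V ∧ x ∈ V := by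
    obtain ⟨_, ⟨V, hV, rfl⟩, hxV, -⟩ :=
      X.isBasis_affineOpens.exists_subset_of_mem_open (Set.mem_univ x) isOpen_univ
    exact ⟨V, hV, hxV⟩
  obtain ⟨S, hS⟩ := (moduleFinite_of_isFiniteType M hM.2 hV).fg_top
  refine ⟨⟨S.image (M.presheaf.germ V x hxV), eq_top_iff.mpr fun e _ => ?_⟩⟩
  obtain ⟨c, w, hc, hw⟩ := exists_smul_eq_germ hV hxV e
  have hu : IsUnit (X.presheaf.germ V x hxV c) :=
    (Scheme.mem_basicOpen _ c x hxV).mp (notMem_primeAt_iff.mp hc)
  refine (Submodule.smul_mem_iff_of_isUnit _ hu).mp ?_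
  rw [hw]
  have hwS : w ∈ Submodule.span Γ(X, V) (S : Set Γ(M, V)) := hS.symm ▸ trivial
  clear hw
  induction hwS using Submodule.span_induction with
  | mem a ha => exact Submodule.subset_span (Finset.mem_coe.mpr (Finset.mem_image_of_mem _ ha))
  | zero => rw [map_zero]; exact Submodule.zero_mem _
  | add a b _ _ ha hb => rw [map_add]; exact Submodule.add_mem _ ha hb
  | smul r a _ ha => rw [WeakAss.germ_smul]; exact Submodule.smul_mem _ _ ha

/-- An exponent separating the socle of `M_x` from `m ^ n M_x`. -/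
theorem exists_exponent (hM : Coh.IsCoh M) : ∃ n : ℕ, ∀ e : M.presheaf.stalk x,
    (∀ r ∈ IsLocalRing.maximalIdeal (X.presheaf.stalk x), r • e = 0) →
    e ∈ IsLocalRing.maximalIdeal (X.presheaf.stalk x) ^ n •
      (⊤ : Submodule (X.presheaf.stalk x) (M.presheaf.stalk x)) → e = 0 := by
  have := moduleFinite_stalk M x hM
  set m := IsLocalRing.maximalIdeal (X.presheaf.stalk x)
  let S : Submodule (X.presheaf.stalk x) (M.presheaf.stalk x) :=
    { carrier := {e | ∀ r ∈ m, r • e = 0}
      add_mem' := fun ha hb r hr => by rw [smul_add, ha r hr, hb r hr, add_zero]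
      zero_mem' := fun r _ => smul_zero r
      smul_mem' := fun c e he r hr => by rw [smul_comm, he r hr, smul_zero] }
  obtain ⟨k, hk⟩ := Ideal.exists_pow_inf_eq_pow_smul m S
  refine ⟨k + 1, fun e he hem => ?_⟩
  have h : e ∈ m ^ (k + 1) • (⊤ : Submodule _ (M.presheaf.stalk x)) ⊓ S := ⟨hem, he⟩
  rw [hk (k + 1) (by omega), Nat.add_sub_cancel_left, pow_one] at h
  refine Submodule.smul_induction_on h (fun r hr s hs => hs.2 r hr) fun a b ha hb => ?_
  rw [ha, hb, add_zero]

/-- The germ maps into `⊕ M_x / m ^ n_x M_x` are jointly injective. -/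
theorem eq_zero_of_germPow (hM : Coh.IsCoh M) (e : X → ℕ)
    (he : ∀ x ∈ AssSch.Ass M, ∀ v : M.presheaf.stalk x,
      (∀ r ∈ IsLocalRing.maximalIdeal (X.presheaf.stalk x), r • v = 0) →
      v ∈ IsLocalRing.maximalIdeal (X.presheaf.stalk x) ^ e x •
        (⊤ : Submodule (X.presheaf.stalk x) (M.presheaf.stalk x)) → v = 0)
    {W : X.Opens} (s : Γ(M, W)) (hs : ∀ x ∈ AssSch.Ass M, s ∈ (germPow M x (e x)).sec W) : s = 0 := by
  have := hM.1
  refine section_eq_zero_of_germ M s fun p hp => ?_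
  obtain ⟨V, hV, hpV, hVW⟩ : ∃ V : X.Opens, IsAffineOpen V ∧ p ∈ V ∧ V ≤ W := by
    obtain ⟨_, ⟨V, hV, rfl⟩, hpV, hVW⟩ :=
      X.isBasis_affineOpens.exists_subset_of_mem_open (SetLike.mem_coe.2 hp) W.2
    exact ⟨V, hV, hpV, hVW⟩
  have := IsLocallyNoetherian.component_noetherian ⟨V, hV⟩
  rw [← germ_map M (homOfLE hVW) hpV]
  suffices h : M.presheaf.map (homOfLE hVW).op s = 0 by rw [h, map_zero]
  set t := M.presheaf.map (homOfLE hVW).op s
  by_contra hne
  let N : Submodule Γ(X, V) Γ(M, V) := Submodule.span _ {t}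
  have hnt : Nontrivial N :=
    nontrivial_of_ne ⟨t, Submodule.mem_span_singleton_self t⟩ 0 fun h => hne (congrArg Subtype.val h)
  obtain ⟨P, hP⟩ := associatedPrimes.nonempty Γ(X, V) N
  have hPM : P ∈ associatedPrimes Γ(X, V) Γ(M, V) := hP.map_of_injective (f := N.subtype) N.subtype_injective
  rw [AssociatedPrimes.mem_iff, isAssociatedPrime_iff] at hP
  obtain ⟨hPp, ⟨w, hw⟩, hPw⟩ := hP
  obtain ⟨y, hy, rfl⟩ := exists_point hV P hPp
  have hyA : y ∈ AssSch.Ass M := (ass_iff M hV hy).mpr hPM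
  have hmem : ∀ a : Γ(X, V), a ∈ primeAt y hy ↔ a • w = 0 := fun a => by
    rw [hPw, Submodule.mem_colon_singleton, Submodule.mem_bot, Subtype.ext_iff]
    rfl
  have hv := he y hyA (M.presheaf.germ V y hy w) (fun r hr => ?_) ?_
  · obtain ⟨c, hc, hcw⟩ := (germ_eq_zero_iff hV hy w).mp hv
    exact hc ((hmem c).mpr hcw)
  · letI := TopCat.Presheaf.algebra_section_stalk X.presheaf (⟨y, hy⟩ : V)
    obtain ⟨⟨a, c⟩, hac⟩ := @IsLocalization.surj _ _ _ _ _ _ (hV.isLocalization_stalk ⟨y, hy⟩) r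
    have hc : IsUnit (X.presheaf.germ V y hy c.1) :=
      @IsLocalization.map_units _ _ _ _ _ _ (hV.isLocalization_stalk ⟨y, hy⟩) c
    have hac' : r * X.presheaf.germ V y hy c.1 = X.presheaf.germ V y hy a := hac
    have ha : a ∈ primeAt y hy := by
      rw [primeAt, Ideal.mem_comap]
      exact hac' ▸ Ideal.mul_mem_right _ _ hr
    refine hc.smul_eq_zero.mp ?_
    rw [smul_smul, mul_comm, hac', ← WeakAss.germ_smul, (hmem a).mp ha, map_zero]
  · obtain ⟨r, rfl⟩ := Submodule.mem_span_singleton.mp hw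
    rw [WeakAss.germ_smul]
    refine Submodule.smul_mem _ _ ?_
    rw [germ_map]
    exact hs y hyA (hVW hy)

theorem ass_quot_eq (hM : Coh.IsCoh M) (hx : x ∈ AssSch.Ass M)
    (hn : ∀ v : M.presheaf.stalk x,
      (∀ r ∈ IsLocalRing.maximalIdeal (X.presheaf.stalk x), r • v = 0) →
      v ∈ IsLocalRing.maximalIdeal (X.presheaf.stalk x) ^ n •
        (⊤ : Submodule (X.presheaf.stalk x) (M.presheaf.stalk x)) → v = 0) :
    AssSch.Ass (quot M x n) = {x} := by
  refine (ass_quot_subset M x n hM).antisymm (Set.singleton_subset_iff.mpr ?_)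
  have := hM.1
  suffices hsupp : x ∈ CohB1.support (quot M x n) by
    obtain ⟨y, hy, -⟩ := exists_ass_specializes _ (quot_isCoh M x n hM) hsupp
    exact Set.mem_singleton_iff.mp (ass_quot_subset M x n hM hy) ▸ hy
  intro hsub
  obtain ⟨-, v, hv⟩ := hx
  obtain ⟨V, hxV, s, rfl⟩ := TopCat.Presheaf.exists_germ_eq M.presheaf v
  have h0 : stalkLin (cokernel.π (germPow M x n).ι) x (M.presheaf.germ V x hxV s) = 0 :=
    @Subsingleton.elim _ hsub _ _
  rw [stalkLin_germ] at h0
  obtain ⟨W, hxW, iU, iV, e⟩ := TopCat.Presheaf.germ_eq (quot M x n).presheaf x hxV hxV _ 0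
    (h0.trans (map_zero _).symm)
  rw [map_zero, QCoh.map_app, π_app_eq_zero_iff] at e
  have hmem := e hxW
  rw [germ_map] at hmem
  have hcol : ∀ r : X.presheaf.stalk x, r ∈ (⊥ : Submodule (X.presheaf.stalk x) (M.presheaf.stalk x)).colon
      {M.presheaf.germ V x hxV s} → r • M.presheaf.germ V x hxV s = 0 := fun r hr => by
    simpa [Submodule.mem_colon_singleton] using hr
  have hmax : ∀ r ∈ IsLocalRing.maximalIdeal (X.presheaf.stalk x),
      ∃ k : ℕ, r ^ k • M.presheaf.germ V x hxV s = 0 := fun r hr => by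
    rw [hv] at hr
    obtain ⟨k, hk⟩ := hr
    exact ⟨k, hcol _ hk⟩
  have hker : IsLocalRing.maximalIdeal (X.presheaf.stalk x) ∈
      associatedPrimes (X.presheaf.stalk x) (Submodule.span (X.presheaf.stalk x) {M.presheaf.germ V x hxV s}) := by
    refine ⟨inferInstance, ⟨_, Submodule.mem_span_singleton_self _⟩, ?_⟩
    rw [hv]
    congr 1
    ext r
    simp [Submodule.mem_colon_singleton, Subtype.ext_iff]
  rw [AssociatedPrimes.mem_iff, isAssociatedPrime_iff] at hker
  obtain ⟨-, ⟨w, hw⟩, hmw⟩ := hker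
  have hw0 : w = 0 := hn w (fun r hr => by
    rw [hmw, Submodule.mem_colon_singleton, Submodule.mem_bot, Subtype.ext_iff] at hr
    exact hr) (by
    obtain ⟨r, rfl⟩ := Submodule.mem_span_singleton.mp hw
    exact Submodule.smul_mem _ _ hmem)
  exact (Ideal.ne_top_iff_one _).mp (IsLocalRing.maximalIdeal.isMaximal (X.presheaf.stalk x)).ne_top
    (hmw ▸ by simp [Submodule.mem_colon_singleton, hw0])

end GrothLib.Primary
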