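import Groth.Prelude.Def_FlatCA
import Mathlib.RingTheory.Ideal.AssociatedPrime.Basic
import Mathlib.RingTheory.Ideal.MinimalPrime.Localization
import Mathlib.RingTheory.Ideal.GoingUp
import Mathlib.RingTheory.QuasiFinite.Basic
import Mathlib.LinearAlgebra.FiniteDimensional.Defs

/-!
Weakly associated and associated primes under restriction of scalars.
-/

universe u

namespace GrothLib.AssPts

variable {A B : Type u} [CommRing A] [CommRing B] {M : Type u} [AddCommGroup M]

theorem annihilator_span [Module A M] (m : M) :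
    (Submodule.span A {m}).annihilator = (⊥ : Submodule A M).colon {m} := by
  ext a
  rw [Submodule.mem_annihilator_span_singleton, Submodule.mem_colon_singleton, Submodule.mem_bot]

theorem mem_weakAss_iff [Module A M] {p : Ideal A} :
    p ∈ FlatCA.weakAss A M ↔ ∃ m : M, p ∈ ((⊥ : Submodule A M).colon {m}).minimalPrimes := by
  simp only [FlatCA.weakAss, Set.mem_setOf_eq, annihilator_span]

theorem weakAss_eq_associatedPrimes [IsNoetherianRing A] [Module A M] :
    FlatCA.weakAss A M = associatedPrimes A M := by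
  ext p
  rw [mem_weakAss_iff]
  constructor
  · rintro ⟨m, hm⟩
    obtain ⟨m', hm'⟩ := Submodule.exists_eq_colon_of_mem_minimalPrimes hm
    exact isAssociatedPrime_iff.mpr ⟨hm.1.1, m', hm'⟩
  · intro h
    obtain ⟨hp, m, rfl⟩ := isAssociatedPrime_iff.mp h
    exact ⟨m, Ideal.minimalPrimes_eq_subsingleton_self (I := (⊥ : Submodule A M).colon {m}) ▸ rfl⟩

variable [Algebra A B] [Module B M] [Module A M] [IsScalarTower A B M]

theorem colon_restrict (m : M) :
    (⊥ : Submodule A M).colon {m} = ((⊥ : Submodule B M).colon {m}).comap (algebraMap A B) := by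
  ext a
  simp only [Ideal.mem_comap, Submodule.mem_colon_singleton, Submodule.mem_bot, algebraMap_smul]

theorem weakAss_subset_image :
    FlatCA.weakAss A M ⊆ Ideal.comap (algebraMap A B) '' FlatCA.weakAss B M := by
  intro p hp
  obtain ⟨m, hm⟩ := mem_weakAss_iff.mp hp
  rw [colon_restrict (B := B)] at hm
  obtain ⟨Q, hQ, hQm, hQp⟩ := Ideal.exists_comap_eq_of_mem_minimalPrimes (algebraMap A B) p hm
  obtain ⟨P, hP, hPQ⟩ := Ideal.exists_minimalPrimes_le hQm
  refine ⟨P, mem_weakAss_iff.mpr ⟨m, hP⟩, le_antisymm ((Ideal.comap_mono hPQ).trans hQp.le) ?_⟩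
  have : P.IsPrime := hP.1.1
  exact hm.2 ⟨inferInstance, Ideal.comap_mono hP.1.2⟩ ((Ideal.comap_mono hPQ).trans hQp.le)

theorem associatedPrimes_eq_image [IsNoetherianRing B] :
    associatedPrimes A M = Ideal.comap (algebraMap A B) '' associatedPrimes B M := by
  apply Set.Subset.antisymm
  · intro p hp
    obtain ⟨hpp, m, hm⟩ := hp
    rw [← weakAss_eq_associatedPrimes]
    refine weakAss_subset_image (B := B) (mem_weakAss_iff.mpr ⟨m, ?_⟩)
    rw [← Ideal.radical_minimalPrimes, ← hm, Ideal.minimalPrimes_eq_subsingleton_self]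
    rfl
  · rintro _ ⟨P, hP, rfl⟩
    obtain ⟨hPp, m, rfl⟩ := isAssociatedPrime_iff.mp hP
    exact ⟨Ideal.IsPrime.comap _, m, ((congrArg Ideal.radical (colon_restrict (A := A) (B := B) m)).trans
      (Ideal.IsPrime.comap _).radical).symm⟩

theorem image_subset_weakAss [Algebra.IsIntegral A B]
    (hfib : ∀ p : Ideal A, p.IsPrime → (p.primesOver B).Finite) :
    Ideal.comap (algebraMap A B) '' FlatCA.weakAss B M ⊆ FlatCA.weakAss A M := by
  rintro _ ⟨P, hP, rfl⟩
  obtain ⟨m, hm⟩ := mem_weakAss_iff.mp hP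
  have hPp : P.IsPrime := hm.1.1
  set J := (⊥ : Submodule B M).colon {m}
  let S : Set (Ideal B) := {Q | Q ∈ (P.comap (algebraMap A B)).primesOver B ∧ Q ≠ P}
  have hS : S.Finite := (hfib _ (Ideal.IsPrime.comap _)).subset fun Q h => h.1
  obtain ⟨s, hsP, hs⟩ : ∃ s ∈ P, ∀ Q ∈ S, s ∉ Q := by
    by_contra! h
    have hsub : (P : Set B) ⊆ ⋃ Q ∈ (hS.toFinset : Set (Ideal B)), (Q : Set B) := by
      intro s hs
      obtain ⟨Q, hQ, hsQ⟩ := h s hs
      exact Set.mem_biUnion (by simpa using hQ) hsQ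
    obtain ⟨Q, hQ, hPQ⟩ := (Ideal.subset_union_prime P P
      (fun Q hQ _ _ => (hS.mem_toFinset.mp hQ).1.1)).mp hsub
    have hQ' := hS.mem_toFinset.mp hQ
    have := hQ'.1.1
    have h1 : P.comap (algebraMap A B) = Q.comap (algebraMap A B) := hQ'.1.2.over
    by_contra
    exact (Ideal.IsIntegral.comap_lt_comap (R := A) (lt_of_le_of_ne hPQ (Ne.symm hQ'.2))).ne h1
  have hrad : ∃ c ∉ P, ∃ n : ℕ, c * s ^ n ∈ J := by
    by_contra! h
    let T : Submonoid B := P.primeCompl ⊔ Submonoid.powers s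
    have hdisj : Disjoint (J : Set B) T := by
      rw [Set.disjoint_left]
      intro w hw hwT
      obtain ⟨c, hc, _, ⟨n, rfl⟩, rfl⟩ := Submonoid.mem_sup.mp hwT
      exact h c hc n hw
    obtain ⟨q, hq, hqJ, hqT⟩ := Ideal.exists_le_prime_disjoint _ _ hdisj
    have hqP : q ≤ P := fun w hw => by
      by_contra hwP
      exact Set.disjoint_left.mp hqT hw (Submonoid.mem_sup_left hwP)
    exact Set.disjoint_left.mp hqT (hm.2 ⟨hq, hqJ⟩ hqP hsP) (Submonoid.mem_sup_right (Submonoid.mem_powers s))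
  obtain ⟨c, hcP, n, hcn⟩ := hrad
  set J' := (⊥ : Submodule B M).colon {c • m}
  have hJ' : ∀ w, w ∈ J' ↔ w * c ∈ J := fun w => by
    simp only [J, J', Submodule.mem_colon_singleton, Submodule.mem_bot, mul_smul]
  have hJJ' : J ≤ J' := fun w hw => (hJ' w).mpr (J.mul_mem_right c hw)
  have hJ'P : J' ≤ P := fun w hw => (hPp.mem_or_mem (hm.1.2 ((hJ' w).mp hw))).resolve_right hcP
  have hsJ' : s ^ n ∈ J' := (hJ' _).mpr (mul_comm c _ ▸ hcn)
  refine mem_weakAss_iff.mpr ⟨c • m, ⟨Ideal.IsPrime.comap _, ?_⟩, ?_⟩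
  · rw [colon_restrict (B := B)]
    exact Ideal.comap_mono hJ'P
  rintro q ⟨hq, hq'⟩ hqp
  rw [colon_restrict (B := B)] at hq'
  obtain ⟨Q, hQJ, hQp, hQq⟩ := Ideal.exists_ideal_over_prime_of_isIntegral q J' hq'
  obtain ⟨P', hP'Q, hP'p, hP'⟩ := Ideal.exists_ideal_over_prime_of_isIntegral (P.comap (algebraMap A B)) Q
    (hQq.le.trans hqp)
  have hP'P : P' = P := by
    by_contra hne
    exact hs P' ⟨⟨hP'p, ⟨hP'.symm⟩⟩, hne⟩ (hP'p.mem_of_pow_mem n (hP'Q (hQJ hsJ')))
  rw [hP'P] at hP'Q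
  have hQP : Q = P := le_antisymm hP'Q (hm.2 ⟨hQp, hJJ'.trans hQJ⟩ hP'Q)
  rw [← hQq, hQP]

end GrothLib.AssPts
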