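import Groth.Agent.Lib.QCoh.GenericPoint
import Groth.Agent.Lib.OX.LocalLift
import Groth.Agent.Lib.AssPts.Points
import Groth.Agent.Lib.WeakAss.Functorial
import Groth.Agent.Lib.Cohom.AffineSections
import Groth.Agent.Lib.QCoh.Killed

/-!
# A morphism out of a cyclic module on an affine scheme
-/

universe u

open CategoryTheory CategoryTheory.Limits AlgebraicGeometry Opposite

namespace GrothLib.AssPts

open GrothLib.WeakAss

variable {Y : Scheme.{u}}

theorem ofTop_app_top' {N : Y.Modules} (m : Γ(N, ⊤)) :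
    (OX.ofTop (N := N) m).app ⊤ (1 : Γ(Y, ⊤)) = m := OX.ofTop_app_top m

theorem stalkLin_ofTop {N : Y.Modules} (m : Γ(N, ⊤)) (y : Y) :
    QCoh.stalkLin (OX.ofTop (N := N) m) y ((Coh.structureModule Y).presheaf.germ ⊤ y trivial (1 : Γ(Y, ⊤))) =
      N.presheaf.germ ⊤ y trivial m := by
  rw [QCoh.stalkLin_germ]
  exact congrArg _ (ofTop_app_top' m)

theorem exists_mono_of_ann_eq [IsAffine Y] (Q F : Y.Modules) [Q.IsQuasicoherent] [F.IsQuasicoherent]
    (q : Γ(Q, ⊤)) (z : Γ(F, ⊤)) (hgen : ∀ w : Γ(Q, ⊤), ∃ a : Γ(Y, ⊤), a • q = w)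
    (hann : ∀ a : Γ(Y, ⊤), a • q = 0 ↔ a • z = 0) : ∃ φ : Q ⟶ F, Mono φ := by
  have hT : IsAffineOpen (⊤ : Y.Opens) := isAffineOpen_top Y
  haveI := Cohom.isQuasicoherent_structureModule Y
  let a := OX.ofTop (N := Q) q
  let b := OX.ofTop (N := F) z
  let g (y : Y) := (Coh.structureModule Y).presheaf.germ ⊤ y trivial (1 : Γ(Y, ⊤))
  have hcmp : ∀ (y : Y) (w : Γ(Y, ⊤)),
      Y.presheaf.germ ⊤ y trivial w • Q.presheaf.germ ⊤ y trivial q = 0 ↔
        Y.presheaf.germ ⊤ y trivial w • F.presheaf.germ ⊤ y trivial z = 0 := by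
    intro y w
    rw [← germ_smul, ← germ_smul, germ_eq_zero_iff hT, germ_eq_zero_iff hT]
    simp only [smul_smul, hann]
  have hunit : ∀ (y : Y) (c : Γ(Y, ⊤)), c ∉ primeAt (V := (⊤ : Y.Opens)) y trivial →
      IsUnit (Y.presheaf.germ ⊤ y trivial c) := fun y c hc =>
    (Scheme.mem_basicOpen _ c y trivial).mp (notMem_primeAt_iff.mp hc)
  have hsurj : ∀ y : Y, Function.Surjective (QCoh.stalkLin a y) := by
    intro y e
    obtain ⟨c, w, hc, hw⟩ := exists_smul_eq_germ hT (x := y) trivial e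
    obtain ⟨r, rfl⟩ := hgen w
    refine ⟨((hunit y c hc).unit⁻¹ : (Y.presheaf.stalk y)ˣ) • Y.presheaf.germ ⊤ y trivial r • g y, ?_⟩
    rw [Units.smul_def, map_smul, map_smul, stalkLin_ofTop, ← germ_smul, ← hw, smul_smul,
      IsUnit.val_inv_mul, one_smul]
  haveI : Epi a := (OX.epi_iff a).2 fun y => (ModuleCat.epi_iff_surjective _).2 (hsurj y)
  have hker : ∀ (y : Y) (k : (Coh.structureModule Y).presheaf.stalk y),
      QCoh.stalkLin a y k = 0 ↔ QCoh.stalkLin b y k = 0 := by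
    intro y k
    obtain ⟨c, w, hc, hw⟩ := exists_smul_eq_germ hT (x := y) trivial k
    have hw1 : w = (show Γ(Y, ⊤) from w) • (show Γ(Coh.structureModule Y, ⊤) from (1 : Γ(Y, ⊤))) :=
      (mul_one (show Γ(Y, ⊤) from w)).symm
    rw [← (hunit y c hc).smul_eq_zero (x := QCoh.stalkLin a y k),
      ← (hunit y c hc).smul_eq_zero (x := QCoh.stalkLin b y k), ← map_smul, ← map_smul, hw,
      hw1, germ_smul, map_smul, map_smul, stalkLin_ofTop, stalkLin_ofTop]
    exact hcmp y w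
  have h0 : kernel.ι a ≫ b = 0 := by
    refine Scheme.Modules.hom_ext _ _ fun U => AddCommGrpCat.ext fun s => ?_
    rw [Scheme.Modules.Hom.comp_app, ConcreteCategory.comp_apply]
    refine (QCoh.section_eq_zero_of_germ F _ fun y hy => ?_).trans (by rfl)
    have hz : a.app U ((kernel.ι a).app U s) = 0 := by
      rw [← ConcreteCategory.comp_apply, ← Scheme.Modules.Hom.comp_app, kernel.condition]
      rfl
    rw [← QCoh.stalkLin_germ, ← hker, QCoh.stalkLin_germ, hz, map_zero]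
  let φ := Abelian.epiDesc a b h0
  have hφ : a ≫ φ = b := Abelian.comp_epiDesc a b h0
  refine ⟨φ, QCoh.mono_of_app_injective φ fun U => (injective_iff_map_eq_zero _).2 fun s hs => ?_⟩
  refine QCoh.section_eq_zero_of_germ Q _ fun y hy => ?_
  obtain ⟨k, hk⟩ := hsurj y (Q.presheaf.germ U y hy s)
  rw [← hk, hker, ← hφ, QCoh.stalkLin_comp, hk, QCoh.stalkLin_germ, hs, map_zero]

end GrothLib.AssPts
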