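import Groth.Agent.Lib.AssPts.Primary
import Mathlib.CategoryTheory.Subobject.Lattice
import Mathlib.CategoryTheory.Subobject.Limits

/-!
# Filtration by coprimary quotients
-/

universe u

open CategoryTheory CategoryTheory.Limits AlgebraicGeometry Opposite

namespace GrothLib.Primary

variable {X : Scheme.{u}}

theorem finite_ass [IsNoetherian X] (M : X.Modules) (hM : Coh.IsCoh M) : (AssSch.Ass M).Finite := by
  have key : ∀ p : X, ∃ V : X.Opens, IsAffineOpen V ∧ p ∈ V := fun p => by
    obtain ⟨_, ⟨V, hV, rfl⟩, hpV, -⟩ :=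
      X.isBasis_affineOpens.exists_subset_of_mem_open (Set.mem_univ p) isOpen_univ
    exact ⟨V, hV, hpV⟩
  choose V hV hpV using key
  obtain ⟨t, ht⟩ := (isCompact_univ (X := X)).elim_finite_subcover (fun p => (V p : Set X))
    (fun p => (V p).isOpen) (fun p _ => Set.mem_iUnion.mpr ⟨p, hpV p⟩)
  refine (t.finite_toSet.biUnion fun p _ => AssPts.finite_ass_inter_affine M hM (hV p)).subset ?_
  intro a ha
  obtain ⟨p, hp, hap⟩ := Set.mem_iUnion₂.mp (ht (Set.mem_univ a))
  exact Set.mem_biUnion hp ⟨ha, hap⟩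

section

variable {M : X.Modules} (G : ℕ → X.Modules) (q : ∀ i, M ⟶ G i)

/-- The intersection of the first `k` kernels. -/
noncomputable def kerChain : ℕ → Subobject M
  | 0 => ⊤
  | k + 1 => Subobject.mk (kernel.ι ((kerChain k).arrow ≫ q k) ≫ (kerChain k).arrow)

theorem kerChain_succ_le (k : ℕ) : kerChain G q (k + 1) ≤ kerChain G q k :=
  (Subobject.mk_le_of_comm (kernel.ι ((kerChain G q k).arrow ≫ q k)) rfl).trans le_rfl

theorem kerChain_antitone {a b : ℕ} (h : a ≤ b) : kerChain G q b ≤ kerChain G q a := by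
  induction h with
  | refl => exact le_rfl
  | step _ ih => exact (kerChain_succ_le G q _).trans ih

theorem mk_kernel_arrow_comp (S : Subobject M) {N : X.Modules} (f : M ⟶ N) :
    (Subobject.mk (kernel.ι (S.arrow ≫ f) ≫ S.arrow)).arrow ≫ f = 0 := by
  rw [← Subobject.underlyingIso_hom_comp_eq_mk, Category.assoc, Category.assoc, kernel.condition, comp_zero]

theorem exists_mono_cokernel_mk (S : Subobject M) {N : X.Modules} (f : M ⟶ N)
    (h : Subobject.mk (kernel.ι (S.arrow ≫ f) ≫ S.arrow) ≤ S) :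
    ∃ j : cokernel (Subobject.ofLE _ _ h) ⟶ N, Mono j := by
  let m := S.arrow ≫ f
  have he : Subobject.ofLE _ _ h = (Subobject.underlyingIso
      (kernel.ι m ≫ S.arrow)).hom ≫ kernel.ι m := by
    rw [← cancel_mono S.arrow, Subobject.ofLE_arrow, Category.assoc]
    exact (Subobject.underlyingIso_hom_comp_eq_mk _).symm
  have h0 : Subobject.ofLE _ _ h ≫ m = 0 := by rw [he, Category.assoc, kernel.condition, comp_zero]
  let T := ShortComplex.mk _ m h0
  have hT : T.Exact := by
    refine ShortComplex.exact_of_f_is_kernel _ ?_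
    exact IsKernel.isoKernel _ _ (kernelIsKernel m) (Subobject.underlyingIso _) (by exact he.symm)
  exact ⟨cokernel.desc _ m h0, hT.mono_cokernelDesc⟩

theorem arrow_comp {i k : ℕ} (h : i < k) : (kerChain G q k).arrow ≫ q i = 0 := by
  have h1 : (kerChain G q (i + 1)).arrow ≫ q i = 0 := mk_kernel_arrow_comp (kerChain G q i) (q i)
  rw [← Subobject.ofLE_arrow (kerChain_antitone G q h), Category.assoc, h1, comp_zero]

theorem kerChain_eq_bot {k : ℕ} (h : ∀ {T : X.Modules} (a : T ⟶ M), (∀ i < k, a ≫ q i = 0) → a = 0) :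
    kerChain G q k = ⊥ := by
  rw [eq_bot_iff]
  refine Subobject.le_of_comm 0 ?_
  rw [zero_comp, h (kerChain G q k).arrow fun i hi => arrow_comp G q hi]

theorem kerChain_isCoh [IsLocallyNoetherian X] (hM : Coh.IsCoh M) (hG : ∀ i, Coh.IsCoh (G i)) :
    ∀ k, Coh.IsCoh ((kerChain G q k : Subobject M) : X.Modules)
  | 0 => QCoh.isCoh_of_iso (asIso (⊤ : Subobject M).arrow).symm hM
  | k + 1 => QCoh.isCoh_of_iso (Subobject.underlyingIso _).symm
      (QCoh.isCoh_kernel _ (kerChain_isCoh hM hG k) (hG k))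

theorem exists_mono_cokernel (k : ℕ) (h : kerChain G q (k + 1) ≤ kerChain G q k) :
    ∃ j : cokernel (Subobject.ofLE _ _ h) ⟶ G k, Mono j :=
  exists_mono_cokernel_mk (kerChain G q k) (q k) h

end

end GrothLib.Primary
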